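import Groth.Agent.LocZLib.Flasque

/-!
Limits of towers of flasque sheaves.
-/

set_option autoImplicit false
set_option backward.isDefEq.respectTransparency false
set_option linter.style.haveILetI false

universe u

open CategoryTheory CategoryTheory.Limits TopologicalSpace Opposite

noncomputable section

namespace Groth.Agent.FlasqueTower

variable {X : TopCat.{u}}

/-- Sections over `V`. -/
abbrev ev (V : Opens X) : CohTop.Ab X ⥤ AddCommGrpCat.{u} :=
  sheafToPresheaf _ _ ⋙ (evaluation _ _).obj (op V)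

/-- Sections killed by `g` come from the kernel. -/
lemma exists_kernel_section {A B : CohTop.Ab X} (g : A ⟶ B) (V : Opens X) (x : (ev V).obj A)
    (hx : (ev V).map g x = 0) :
    ∃ k : (ev V).obj (kernel g : CohTop.Ab X), (ev V).map (kernel.ι g) k = x := by
  let S : ShortComplex (CohTop.Ab X) := ShortComplex.mk (kernel.ι g) g (kernel.condition g)
  haveI : Mono S.f := inferInstanceAs (Mono (kernel.ι g))
  have h : (S.map (ev V)).Exact :=
    ShortComplex.exact_of_f_is_kernel _
      (isLimitForkMapOfIsLimit' (ev V) S.zero (kernelIsKernel g))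
  exact (ShortComplex.ab_exact_iff _).1 h x hx

/-- An epimorphism with flasque kernel is surjective on sections. -/
lemma surjective_of_flasque_kernel {A B : CohTop.Ab X} (g : A ⟶ B) [Epi g]
    (h : TopCat.Sheaf.IsFlasque (kernel g : CohTop.Ab X)) (V : Opens X) :
    Function.Surjective ((ev V).map g) := by
  let S : ShortComplex (CohTop.Ab X) := ShortComplex.mk (kernel.ι g) g (kernel.condition g)
  have hS : S.ShortExact :=
    { exact := ShortComplex.exact_of_f_is_kernel _ (kernelIsKernel g)
      mono_f := inferInstanceAs (Mono (kernel.ι g))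
      epi_g := inferInstanceAs (Epi g) }
  haveI : TopCat.Sheaf.IsFlasque S.X₁ := h
  exact (AddCommGrpCat.epi_iff_surjective (S.g.1.app (op V))).1
    (TopCat.Sheaf.IsFlasque.epi_of_shortExact hS)

variable (M : ℕᵒᵖ ⥤ CohTop.Ab X)

/-- The transition maps. -/
abbrev tr (n : ℕ) : M.obj (op (n + 1)) ⟶ M.obj (op n) := M.map (homOfLE (Nat.le_succ n)).op

/-- Compatible families of sections are sections of the limit. -/
lemma exists_limit_section (V : Opens X) (t : ∀ n, (ev V).obj (M.obj (op n)))
    (ht : ∀ n, (ev V).map (tr M n) (t (n + 1)) = t n) :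
    ∃ s : (ev V).obj (limit M : CohTop.Ab X), ∀ n, (ev V).map (limit.π M (op n)) s = t n := by
  let F : ℕᵒᵖ ⥤ Type u := (M ⋙ ev V) ⋙ forget AddCommGrpCat.{u}
  have hc : ∀ {m n : ℕ} (h : m ≤ n), (ev V).map (M.map (homOfLE h).op) (t n) = t m := by
    intro m n h
    induction n, h using Nat.le_induction with
    | base =>
      rw [show (homOfLE (le_refl m)).op = 𝟙 (op m) from rfl, M.map_id, (ev V).map_id]
      rfl
    | succ n h ih =>
      rw [show (homOfLE (h.trans (Nat.le_succ n))).op = (homOfLE (Nat.le_succ n)).op ≫ (homOfLE h).op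
          from rfl, M.map_comp, (ev V).map_comp, ConcreteCategory.comp_apply]
      exact (congrArg _ (ht n)).trans ih
  let σ : F.sections := ⟨fun j => t j.unop, fun {a b} f => hc (leOfHom f.unop)⟩
  let hlim := isLimitOfPreserves (forget AddCommGrpCat.{u})
    (isLimitOfPreserves (ev V) (limit.isLimit M))
  refine ⟨(Types.isLimitEquivSections hlim).symm σ, fun n => ?_⟩
  exact Types.isLimitEquivSections_symm_apply hlim σ (op n)

/-- Sections of the limit are determined by their components. -/
lemma limit_section_ext (V : Opens X) (s s' : (ev V).obj (limit M : CohTop.Ab X))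
    (h : ∀ n, (ev V).map (limit.π M (op n)) s = (ev V).map (limit.π M (op n)) s') : s = s' :=
  Concrete.isLimit_ext _ (isLimitOfPreserves (ev V) (limit.isLimit M)) s s' fun j => h j.unop

lemma proj_tr (V : Opens X) (s : (ev V).obj (limit M : CohTop.Ab X)) (n : ℕ) :
    (ev V).map (tr M n) ((ev V).map (limit.π M (op (n + 1))) s) =
      (ev V).map (limit.π M (op n)) s := by
  rw [← ConcreteCategory.comp_apply, ← Functor.map_comp, limit.w]

lemma res_nat {A B : CohTop.Ab X} (g : A ⟶ B) {W V : Opens X} (h : W ≤ V) (x : (ev V).obj A) :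
    (ev W).map g (A.obj.map (homOfLE h).op x) = B.obj.map (homOfLE h).op ((ev V).map g x) :=
  NatTrans.naturality_apply g.hom (homOfLE h).op x

theorem isFlasque_limit (h₀ : TopCat.Sheaf.IsFlasque (M.obj (op 0)))
    (hepi : ∀ n, Epi (tr M n)) (hker : ∀ n, TopCat.Sheaf.IsFlasque (kernel (tr M n) : CohTop.Ab X)) :
    TopCat.Sheaf.IsFlasque (limit M : CohTop.Ab X) := by
  refine LocZLib.isFlasque_of_surjective _ fun {W V} h s => ?_
  let a : ∀ n, (ev W).obj (M.obj (op n)) := fun n => (ev W).map (limit.π M (op n)) s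
  obtain ⟨t0, ht0⟩ := LocZLib.surjective_res_flasque (M.obj (op 0)) (hF := h₀) h (a 0)
  have step : ∀ (n : ℕ) (t : (ev V).obj (M.obj (op n))), (M.obj (op n)).obj.map (homOfLE h).op t = a n →
      ∃ t' : (ev V).obj (M.obj (op (n + 1))), (ev V).map (tr M n) t' = t ∧
        (M.obj (op (n + 1))).obj.map (homOfLE h).op t' = a (n + 1) := by
    intro n t ht
    haveI := hepi n
    obtain ⟨t', ht'⟩ := surjective_of_flasque_kernel (tr M n) (hker n) V t
    let b : (ev W).obj (M.obj (op (n + 1))) := (M.obj (op (n + 1))).obj.map (homOfLE h).op t'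
    obtain ⟨k, hk⟩ := exists_kernel_section (tr M n) W (a (n + 1) - b) (by
        rw [map_sub]
        erw [res_nat (tr M n) h t', ht', ht]
        exact sub_eq_zero.2 (proj_tr M W s n))
    obtain ⟨k', hk'⟩ := LocZLib.surjective_res_flasque (kernel (tr M n) : CohTop.Ab X) (hF := hker n) h k
    refine ⟨t' + (ev V).map (kernel.ι (tr M n)) k', ?_, ?_⟩
    · rw [map_add, ht', ← ConcreteCategory.comp_apply, ← Functor.map_comp, kernel.condition,
        Functor.map_zero]
      exact add_zero t
    · erw [map_add, ← res_nat (kernel.ι (tr M n)) h k', hk', hk]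
      exact add_sub_cancel _ _
  choose next hnext hnext' using step
  let t : ∀ n, {t : (ev V).obj (M.obj (op n)) // (M.obj (op n)).obj.map (homOfLE h).op t = a n} :=
    fun n => Nat.rec ⟨t0, ht0⟩ (fun n p => ⟨next n p.1 p.2, hnext' n p.1 p.2⟩) n
  obtain ⟨s', hs'⟩ := exists_limit_section M V (fun n => (t n).1) (fun n => hnext n (t n).1 (t n).2)
  refine ⟨s', limit_section_ext M W _ _ fun n => ?_⟩
  erw [res_nat (limit.π M (op n)) h s', hs']
  exact (t n).2

/-- Limits preserve epimorphisms of towers with flasque kernels. -/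
theorem epi_limMap (S : ShortComplex (ℕᵒᵖ ⥤ CohTop.Ab X)) (hS : S.ShortExact)
    (h₁ : ∀ n, TopCat.Sheaf.IsFlasque (S.X₁.obj (op n)))
    (hepi : ∀ n, Epi (tr S.X₁ n))
    (hker : ∀ n, TopCat.Sheaf.IsFlasque (kernel (tr S.X₁ n) : CohTop.Ab X)) :
    Epi (limMap S.g) := by
  have hn : ∀ n : ℕ, (S.map ((evaluation _ (CohTop.Ab X)).obj (op n))).ShortExact := fun n =>
    hS.map_of_exact _
  have hsurj : ∀ (n : ℕ) (V : Opens X), Function.Surjective ((ev V).map (S.g.app (op n))) := fun n V => by
    haveI : TopCat.Sheaf.IsFlasque (S.map ((evaluation _ (CohTop.Ab X)).obj (op n))).X₁ := h₁ n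
    exact (AddCommGrpCat.epi_iff_surjective ((S.g.app (op n)).1.app (op V))).1
      (TopCat.Sheaf.IsFlasque.epi_of_shortExact (hn n))
  have hexact : ∀ (n : ℕ) (V : Opens X) (x : (ev V).obj (S.X₂.obj (op n))),
      (ev V).map (S.g.app (op n)) x = 0 → ∃ y, (ev V).map (S.f.app (op n)) y = x := by
    intro n V x hx
    let T := S.map ((evaluation _ (CohTop.Ab X)).obj (op n))
    haveI : Mono T.f := (hn n).mono_f
    have h : (T.map (ev V)).Exact :=
      ShortComplex.exact_of_f_is_kernel _ (isLimitForkMapOfIsLimit' (ev V) T.zero (hn n).fIsKernel)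
    exact (ShortComplex.ab_exact_iff _).1 h x hx
  have hnatf : ∀ (n : ℕ) (V : Opens X) (x : (ev V).obj (S.X₁.obj (op (n + 1)))),
      (ev V).map (tr S.X₂ n) ((ev V).map (S.f.app (op (n + 1))) x) =
        (ev V).map (S.f.app (op n)) ((ev V).map (tr S.X₁ n) x) := fun n V x => by
    rw [← ConcreteCategory.comp_apply, ← Functor.map_comp, ← ConcreteCategory.comp_apply,
      ← Functor.map_comp, S.f.naturality]
  have hnatg : ∀ (n : ℕ) (V : Opens X) (x : (ev V).obj (S.X₂.obj (op (n + 1)))),
      (ev V).map (tr S.X₃ n) ((ev V).map (S.g.app (op (n + 1))) x) =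
        (ev V).map (S.g.app (op n)) ((ev V).map (tr S.X₂ n) x) := fun n V x => by
    rw [← ConcreteCategory.comp_apply, ← Functor.map_comp, ← ConcreteCategory.comp_apply,
      ← Functor.map_comp, S.g.naturality]
  have main : ∀ V : Opens X, Function.Surjective ((ev V).map (limMap S.g : (limit S.X₂ : CohTop.Ab X) ⟶ limit S.X₃)) := by
    intro V s
    let c : ∀ n, (ev V).obj (S.X₃.obj (op n)) := fun n => (ev V).map (limit.π S.X₃ (op n)) s
    obtain ⟨m0, hm0⟩ := hsurj 0 V (c 0)
    have step : ∀ (n : ℕ) (m : (ev V).obj (S.X₂.obj (op n))), (ev V).map (S.g.app (op n)) m = c n →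
        ∃ m' : (ev V).obj (S.X₂.obj (op (n + 1))), (ev V).map (tr S.X₂ n) m' = m ∧
          (ev V).map (S.g.app (op (n + 1))) m' = c (n + 1) := by
      intro n m hm
      obtain ⟨m', hm'⟩ := hsurj (n + 1) V (c (n + 1))
      obtain ⟨y, hy⟩ := hexact n V (m - (ev V).map (tr S.X₂ n) m') (by
        rw [map_sub, hm, ← hnatg, hm', proj_tr, sub_self])
      haveI := hepi n
      obtain ⟨z, hz⟩ := surjective_of_flasque_kernel (tr S.X₁ n) (hker n) V y
      refine ⟨m' + (ev V).map (S.f.app (op (n + 1))) z, ?_, ?_⟩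
      · rw [map_add, hnatf, hz, hy, add_sub_cancel]
      · rw [map_add, hm', ← ConcreteCategory.comp_apply, ← Functor.map_comp, ← NatTrans.comp_app,
          S.zero]
        simp
    choose next hnext hnext' using step
    let t : ∀ n, {m : (ev V).obj (S.X₂.obj (op n)) // (ev V).map (S.g.app (op n)) m = c n} :=
      fun n => Nat.rec ⟨m0, hm0⟩ (fun n p => ⟨next n p.1 p.2, hnext' n p.1 p.2⟩) n
    obtain ⟨s', hs'⟩ := exists_limit_section S.X₂ V (fun n => (t n).1) (fun n => hnext n (t n).1 (t n).2)
    refine ⟨s', limit_section_ext S.X₃ V _ _ fun n => ?_⟩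
    rw [← ConcreteCategory.comp_apply, ← Functor.map_comp, limMap_π, Functor.map_comp,
      ConcreteCategory.comp_apply, hs']
    exact (t n).2
  haveI : ∀ W : (Opens X)ᵒᵖ, Epi (((sheafToPresheaf (Opens.grothendieckTopology X) AddCommGrpCat.{u}).map
      (limMap S.g : (limit S.X₂ : CohTop.Ab X) ⟶ limit S.X₃)).app W) :=
    fun W => (AddCommGrpCat.epi_iff_surjective _).2 (main W.unop)
  haveI : Epi ((sheafToPresheaf _ _).map (limMap S.g : (limit S.X₂ : CohTop.Ab X) ⟶ limit S.X₃)) :=
    NatTrans.epi_of_epi_app _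
  exact (sheafToPresheaf _ _).epi_of_epi_map this

end Groth.Agent.FlasqueTower
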